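import Groth.Agent.Lib.EtSplitH7.Near
import Groth.Agent.Lib.Weight4.PointsSep
import Groth.Agent.Lib.EtBase.Unramified
import Mathlib.AlgebraicGeometry.Morphisms.FlatMono
import Mathlib.AlgebraicGeometry.Morphisms.Etale

/-!
# Splitting unramified and étale points by étale localisation
-/

set_option autoImplicit false
set_option linter.style.haveILetI false
universe u

open CategoryTheory Limits AlgebraicGeometry IsLocalRing

namespace Groth.Agent.EtSplitH7

variable {X S : Scheme.{u}}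

theorem restrict_apply {P U : Scheme.{u}} (h : P ⟶ U) (N : U.Opens) (z : ↥(h ⁻¹ᵁ N).toScheme) :
    N.ι ((h ∣_ N) z) = h ((h ⁻¹ᵁ N).ι z) := by
  rw [← Scheme.Hom.comp_apply, morphismRestrict_ι, Scheme.Hom.comp_apply]

theorem restrict_mono (Q : MorphismProperty Scheme.{u}) [Q.IsStableUnderBaseChange] {P U : Scheme.{u}}
    (h : P ⟶ U) {N N' : U.Opens} (hle : N' ≤ N) (hQ : Q (h ∣_ N)) : Q (h ∣_ N') := by
  have hle' : h ⁻¹ᵁ N' ≤ h ⁻¹ᵁ N := fun _ hz => hle hz
  have h1 : IsPullback (h ∣_ N') (P.homOfLE hle') (U.homOfLE hle) (h ∣_ N) := by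
    refine IsPullback.of_bot ?_ ?_ (isPullback_morphismRestrict h N)
    · rw [Scheme.homOfLE_ι, Scheme.homOfLE_ι]
      exact isPullback_morphismRestrict h N'
    · rw [← cancel_mono N.ι, Category.assoc, Category.assoc, morphismRestrict_ι, Scheme.homOfLE_ι,
        Scheme.homOfLE_ι_assoc, morphismRestrict_ι]
  exact MorphismProperty.of_isPullback h1.flip hQ

/-- A finite étale morphism is an isomorphism near a point whose fibre is one purely inseparable point. -/
theorem exists_isIso_restrict {P U : Scheme.{u}} (h : P ⟶ U) [IsFinite h] [Etale h] (v : P)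
    (huniq : ∀ w, h w = h v → w = v)
    (hpi : letI := (h.residueFieldMap v).hom.toAlgebra
      IsPurelyInseparable (U.residueField (h v)) (P.residueField v)) :
    ∃ N : U.Opens, h v ∈ N ∧ IsIso (h ∣_ N) := by
  obtain ⟨N, hN, hci⟩ := exists_isClosedImmersion_restrict h v huniq hpi
  haveI := hci
  haveI : Etale (h ∣_ N) := IsZariskiLocalAtTarget.restrict ‹_› N
  haveI : IsOpenImmersion (h ∣_ N) := IsOpenImmersion.of_flat_of_mono _
  let N' : U.Opens := N.ι ''ᵁ (h ∣_ N).opensRange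
  have hle : N' ≤ N := N.ι_image_le _
  have hv' : h v ∈ N' := ⟨(h ∣_ N) ⟨v, hN⟩, ⟨_, rfl⟩, restrict_apply h N ⟨v, hN⟩⟩
  haveI : IsOpenImmersion (h ∣_ N') := restrict_mono @IsOpenImmersion h hle inferInstance
  have hsurj : Function.Surjective (h ∣_ N') := by
    rintro ⟨y, hy⟩
    obtain ⟨_, ⟨z, rfl⟩, hzy⟩ := id hy
    have hzy' : h z.1 = y := (restrict_apply h N z).symm.trans hzy
    refine ⟨⟨z.1, show h z.1 ∈ N' from hzy'.symm ▸ hy⟩, N'.ι.isOpenEmbedding.injective ?_⟩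
    exact (restrict_apply h N' ⟨z.1, show h z.1 ∈ N' from hzy'.symm ▸ hy⟩).trans hzy'
  haveI : Surjective (h ∣_ N') := ⟨hsurj⟩
  exact ⟨N', hv', (isIso_iff_isOpenImmersion_and_surjective _).2 ⟨inferInstance, inferInstance⟩⟩

/-- The pieces of an étale localisation at finitely many unramified points. -/
theorem exists_nbhd (Q : MorphismProperty Scheme.{u}) [Q.IsStableUnderBaseChange] [Q.RespectsIso]
    (f : X ⟶ S) (s : S) {ι : Type} [Finite ι] (x : ι → ↥X) (hinj : Function.Injective x)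
    (hs : ∀ i, f (x i) = s) (X' : X.Opens) (hx : ∀ i, x i ∈ X') [LocallyOfFiniteType (X'.ι ≫ f)]
    [FormallyUnramified (X'.ι ≫ f)]
    (hQ : ∀ (U : Scheme.{u}) (g : U ⟶ S) (W : (pullback (X'.ι ≫ f) g).Opens),
      IsFinite (W.ι ≫ pullback.snd _ g) → ∀ v : W.toScheme,
        (∀ w, (W.ι ≫ pullback.snd _ g) w = (W.ι ≫ pullback.snd _ g) v → w = v) →
        (letI := ((W.ι ≫ pullback.snd _ g).residueFieldMap v).hom.toAlgebra;
          IsPurelyInseparable (U.residueField ((W.ι ≫ pullback.snd _ g) v)) (W.toScheme.residueField v)) →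
        ∃ N : U.Opens, (W.ι ≫ pullback.snd _ g) v ∈ N ∧ Q ((W.ι ≫ pullback.snd _ g) ∣_ N)) :
    ∃ (U : Scheme.{u}) (g : U ⟶ S) (u : U), Etale g ∧ g u = s ∧
      ∃ (K : Type) (_ : Finite K) (lab : K → ι) (V : K → (pullback f g).Opens),
        (∀ k, Q ((V k).ι ≫ pullback.snd f g) ∧
          ∃ w : ↑(pullback f g), w ∈ V k ∧ pullback.snd f g w = u) ∧
        (∀ (k k' : K) (w : ↑(pullback f g)), w ∈ V k → w ∈ V k' → pullback.snd f g w = u → k = k') ∧
        (∀ (w : ↑(pullback f g)) (i : ι), pullback.snd f g w = u → pullback.fst f g w = x i →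
          ∃ k, lab k = i ∧ w ∈ V k) := by
  classical
  let f' := X'.ι ≫ f
  haveI := EtBase.locallyQuasiFinite_of_formallyUnramified f'
  obtain ⟨Ω, _, _, t, n, a, U₀, g₀, ū, W, ht, hainj, hapt, hall, hg₀, hū, hfin, huniq⟩ :=
    Weight.exists_split_points f' s (fun i => (⟨x i, hx i⟩ : X'))
      (fun i j h => hinj (congrArg Subtype.val h)) hs (fun i => f'.quasiFiniteAt _)
  haveI := hg₀
  haveI := hfin
  choose v hvW hvu hvx hvuniq hvc hvres using fun l => Weight.piece_props (f := f') (huniq l)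
  let h₀ := fun l => (W l).ι ≫ pullback.snd f' g₀
  have hN : ∀ l, ∃ N : U₀.Opens, Weight.pt ū ∈ N ∧ Q (h₀ l ∣_ N) := fun l => by
    obtain ⟨N, hN, hQN⟩ := hQ U₀ g₀ (W l) inferInstance ⟨v l, hvW l⟩ (fun w hw => Subtype.ext
      (hvuniq l w.1 w.2 (hw.trans (hvu l)))) (isPurelyInseparable_comp (W l) (pullback.snd f' g₀) ⟨v l, hvW l⟩ (hvres l).2)
    exact ⟨N, (show h₀ l ⟨v l, hvW l⟩ = Weight.pt ū from hvu l) ▸ hN, hQN⟩
  choose Ns hNu hNQ using hN
  let N : U₀.Opens := ⟨⋂ l, (Ns l : Set U₀), isOpen_iInter_of_finite fun l => (Ns l).2⟩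
  have huN : Weight.pt ū ∈ N := Set.mem_iInter.2 hNu
  have hNle : ∀ l, N ≤ Ns l := fun l z hz => Set.mem_iInter.1 hz l
  let g := N.ι ≫ g₀
  let bc : pullback f g ⟶ pullback f g₀ :=
    pullback.map f g f g₀ (𝟙 X) N.ι (𝟙 S) (by simp) (Category.comp_id _)
  haveI : IsOpenImmersion bc :=
    MorphismProperty.pullbackMap (P := @IsOpenImmersion) (inferInstance : IsOpenImmersion (𝟙 X)) (inferInstance : IsOpenImmersion N.ι) (Category.id_comp f).symm rfl
  let j : pullback f' g₀ ⟶ pullback f g₀ :=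
    pullback.map f' g₀ f g₀ X'.ι (𝟙 U₀) (𝟙 S) (Category.comp_id _) (by simp)
  haveI : IsOpenImmersion j :=
    MorphismProperty.pullbackMap (P := @IsOpenImmersion) (inferInstance : IsOpenImmersion X'.ι) (inferInstance : IsOpenImmersion (𝟙 U₀)) rfl (Category.id_comp g₀).symm
  let e : ∀ l, (h₀ l ⁻¹ᵁ N).toScheme ⟶ pullback f g := fun l =>
    pullback.lift ((h₀ l ⁻¹ᵁ N).ι ≫ (W l).ι ≫ pullback.fst f' g₀ ≫ X'.ι) (h₀ l ∣_ N) (by
      show _ = _ ≫ N.ι ≫ g₀
      rw [morphismRestrict_ι_assoc]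
      simp only [Category.assoc]
      rw [pullback.condition]
      simp only [h₀, Category.assoc])
  have hebc : ∀ l, e l ≫ bc = (h₀ l ⁻¹ᵁ N).ι ≫ (W l).ι ≫ j := fun l => by
    apply pullback.hom_ext
    · simp only [e, bc, j, Category.assoc, pullback.lift_fst, pullback.lift_fst_assoc, Category.comp_id]
    · simp only [e, bc, j, Category.assoc, pullback.lift_snd, pullback.lift_snd_assoc, Category.comp_id,
        morphismRestrict_ι, h₀]
  haveI : ∀ l, IsOpenImmersion (e l ≫ bc) := fun l => by rw [hebc]; infer_instance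
  haveI : ∀ l, IsOpenImmersion (e l) := fun l => IsOpenImmersion.of_comp (e l) bc
  have hsnd : ∀ l, e l ≫ pullback.snd f g = h₀ l ∣_ N := fun l => pullback.lift_snd _ _ _
  let u : N := ⟨Weight.pt ū, huN⟩
  let v' : ∀ l, ↑(h₀ l ⁻¹ᵁ N) := fun l => ⟨⟨v l, hvW l⟩, show pullback.snd f' g₀ (v l) ∈ N from (hvu l).symm ▸ huN⟩
  have hv'u : ∀ l, pullback.snd f g (e l (v' l)) = u := fun l => by
    rw [← Scheme.Hom.comp_apply, hsnd]
    exact N.ι.isOpenEmbedding.injective ((restrict_apply (h₀ l) N (v' l)).trans (hvu l))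
  have hunder : ∀ l w, w ∈ (e l).opensRange → pullback.snd f g w = u → bc w = j (v l) := by
    rintro l _ ⟨z, rfl⟩ hz
    rw [← Scheme.Hom.comp_apply, hebc]
    show j (z.1.1) = j (v l)
    rw [hvuniq l z.1.1 z.1.2]
    have h5 : (h₀ l ∣_ N) z = u := by rw [← hsnd]; exact hz
    exact (restrict_apply (h₀ l) N z).symm.trans (congrArg (fun y : N => y.1) h5)
  refine ⟨N, g, u, inferInstance, by rw [← ht, ← hū]; rfl, _, (inferInstance : Finite (Σ i, Fin (n i))), Sigma.fst, fun l => (e l).opensRange,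
    fun l => ⟨?_, e l (v' l), ⟨_, rfl⟩, hv'u l⟩, fun k k' w hw hw' hwu => ?_, fun w i hwu hwx => ?_⟩
  · have h1 : (e l).opensRange.ι ≫ pullback.snd f g = (e l).isoOpensRange.inv ≫ (h₀ l ∣_ N) := by
      rw [← hsnd, ← Category.assoc, (Iso.inv_comp_eq _).2 (Scheme.Hom.isoOpensRange_hom_ι (e l)).symm]
    rw [h1, MorphismProperty.cancel_left_of_respectsIso Q]
    exact restrict_mono Q (h₀ l) (hNle l) (hNQ l)
  · have hv : v k = v k' := j.isOpenEmbedding.injective ((hunder k w hw hwu).symm.trans (hunder k' w hw' hwu))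
    obtain ⟨c, hc1, hc2, hcW⟩ := Weight.inLift_iff.1 ((huniq k' (a k')).2 rfl)
    have hcv : Weight.pt c = v k' := hvc k' c hc2 hc1
    exact (hainj ((huniq k (a k')).1 (Weight.inLift_iff.2 ⟨c, hc1, hc2, by rw [hcv, ← hv]; exact hvW k⟩))).symm
  · have hfst : pullback.fst f g₀ (bc w) = x i := by
      rw [← Scheme.Hom.comp_apply, show bc ≫ pullback.fst f g₀ = pullback.fst f g from
        (pullback.lift_fst _ _ _).trans (Category.comp_id _)]
      exact hwx
    obtain ⟨z, hz⟩ : bc w ∈ Set.range j := by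
      rw [Scheme.Pullback.range_map]
      exact ⟨⟨⟨x i, hx i⟩, hfst.symm⟩, ⟨_, rfl⟩⟩
    have hzu : pullback.snd f' g₀ z = Weight.pt ū := by
      rw [show pullback.snd f' g₀ = j ≫ pullback.snd f g₀ from ((pullback.lift_snd _ _ _).trans (Category.comp_id _)).symm, Scheme.Hom.comp_apply, hz,
        ← Scheme.Hom.comp_apply, show bc ≫ pullback.snd f g₀ = pullback.snd f g ≫ N.ι from pullback.lift_snd _ _ _,
        Scheme.Hom.comp_apply, hwu]
      rfl
    have hzx : pullback.fst f' g₀ z = (⟨x i, hx i⟩ : X') := by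
      apply X'.ι.isOpenEmbedding.injective
      rw [← Scheme.Hom.comp_apply, show pullback.fst f' g₀ ≫ X'.ι = j ≫ pullback.fst f g₀ from
        (pullback.lift_fst _ _ _).symm, Scheme.Hom.comp_apply, hz]
      exact hfst
    obtain ⟨c, hc, hcz⟩ := Weight.exists_lift_of_eq (pullback.snd f' g₀) z
      (Weight.quasiFiniteAt_pullback_snd f' g₀ z (f'.quasiFiniteAt _)) ū hzu
    obtain ⟨l, hl, rfl⟩ := hall i (c ≫ pullback.fst f' g₀)
      (by rw [Category.assoc, pullback.condition, ← Category.assoc, hc, hū])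
      (by rw [Weight.pt_comp, hcz, hzx])
    refine ⟨l, rfl, v' l, bc.isOpenEmbedding.injective ?_⟩
    rw [← Scheme.Hom.comp_apply, hebc, ← hz]
    show j (v l) = j z
    rw [← hcz, hvc l c hc hl.symm]

end Groth.Agent.EtSplitH7

namespace Groth.Agent.EtSplitH7

variable {X S : Scheme.{u}}

theorem of_cover (Q : MorphismProperty Scheme.{u}) [IsZariskiLocalAtSource Q] [Q.IsStableUnderComposition]
    (hQi : ∀ {A B : Scheme.{u}} (e : A ⟶ B) [IsOpenImmersion e], Q e)
    (f : X ⟶ S) {ι : Type} (W : ι → X.Opens) (h : ∀ i, Q ((W i).ι ≫ f)) :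
    Q ((⨆ i, W i : X.Opens).ι ≫ f) := by
  let X' : X.Opens := ⨆ i, W i
  show Q (X'.ι ≫ f)
  refine (IsZariskiLocalAtSource.iff_of_iSup_eq_top (P := Q) (fun i : ι => X'.ι ⁻¹ᵁ W i) ?_).2 fun i => ?_
  · rw [← Scheme.Hom.preimage_iSup]
    exact TopologicalSpace.Opens.ext (Set.eq_univ_of_forall fun z => z.2)
  · have hr : Set.range ((X'.ι ⁻¹ᵁ W i).ι ≫ X'.ι) ⊆ Set.range (W i).ι := by
      rintro _ ⟨z, rfl⟩
      rw [Scheme.Opens.range_ι]
      exact z.2
    haveI : IsOpenImmersion (IsOpenImmersion.lift (W i).ι _ hr ≫ (W i).ι) := by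
      rw [IsOpenImmersion.lift_fac]; infer_instance
    haveI : IsOpenImmersion (IsOpenImmersion.lift (W i).ι _ hr) := IsOpenImmersion.of_comp _ (W i).ι
    rw [← Category.assoc, ← IsOpenImmersion.lift_fac (W i).ι _ hr, Category.assoc]
    exact Q.comp_mem _ _ (hQi _) (h i)

/-- Shrink the base so that closed pieces become disjoint. -/
theorem exists_decomp (Q : MorphismProperty Scheme.{u}) [Q.IsStableUnderBaseChange]
    (hQc : ∀ {A B : Scheme.{u}} (e : A ⟶ B), Q e → IsClosedImmersion e)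
    (f : X ⟶ S) [IsSeparated f] (s : S) {ι : Type} (x : ι → ↥X)
    (H : ∃ (U : Scheme.{u}) (g : U ⟶ S) (u : U), Etale g ∧ g u = s ∧
      ∃ (K : Type) (_ : Finite K) (lab : K → ι) (V : K → (pullback f g).Opens),
        (∀ k, Q ((V k).ι ≫ pullback.snd f g) ∧
          ∃ w : ↑(pullback f g), w ∈ V k ∧ pullback.snd f g w = u) ∧
        (∀ (k k' : K) (w : ↑(pullback f g)), w ∈ V k → w ∈ V k' → pullback.snd f g w = u → k = k') ∧
        (∀ (w : ↑(pullback f g)) (i : ι), pullback.snd f g w = u → pullback.fst f g w = x i →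
          ∃ k, lab k = i ∧ w ∈ V k)) :
    ∃ (U : Scheme.{u}) (g : U ⟶ S) (u : U), Etale g ∧ g u = s ∧
      ∃ (K : Type) (_ : Finite K) (W : (pullback f g).Opens) (V : K → (pullback f g).Opens),
        W ⊔ (⨆ k, V k) = ⊤ ∧ (∀ k, Disjoint W (V k)) ∧ (∀ k k', k ≠ k' → Disjoint (V k) (V k')) ∧
        (∀ k, Q ((V k).ι ≫ pullback.snd f g) ∧
          ∃ w : ↑(pullback f g), w ∈ V k ∧ pullback.snd f g w = u) ∧
        (∀ (w : ↑(pullback f g)) (i : ι), w ∈ W → pullback.snd f g w = u → pullback.fst f g w ≠ x i) := by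
  classical
  obtain ⟨U, g, u, hg, hgu, K, hK, lab, V, hV, hdisj, hall⟩ := H
  haveI := hg
  haveI : ∀ k, IsClosedImmersion ((V k).ι ≫ pullback.snd f g) := fun k => hQc _ (hV k).1
  have hclosed : ∀ k, IsClosed (V k : Set ↥(pullback f g)) := fun k => by
    haveI : IsClosedImmersion (V k).ι := IsClosedImmersion.of_comp (V k).ι (pullback.snd f g)
    rw [← Scheme.Opens.range_ι]
    exact (V k).ι.isClosedEmbedding.isClosed_range
  let bad : {p : K × K // p.1 ≠ p.2} → Set U := fun p =>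
    ((V p.1.1).ι ≫ pullback.snd f g) '' ((V p.1.1).ι ⁻¹' (V p.1.2 : Set ↥(pullback f g)))
  have hbad : ∀ p, IsClosed (bad p) := fun p =>
    ((V p.1.1).ι ≫ pullback.snd f g).isClosedEmbedding.isClosedMap _
      ((hclosed p.1.2).preimage (V p.1.1).ι.continuous)
  let N : U.Opens := ⟨(⋃ p, bad p)ᶜ, (isClosed_iUnion_of_finite hbad).isOpen_compl⟩
  have hu : u ∈ N := fun hb => by
    obtain ⟨⟨⟨k, k'⟩, hne⟩, z, hz, hzu⟩ := Set.mem_iUnion.1 hb
    exact hne (hdisj k k' z.1 z.2 hz hzu)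
  let g' := N.ι ≫ g
  let bc := Weight.bcMap (IsPullback.of_hasPullback f g) (IsPullback.of_hasPullback f g') N.ι rfl
  have hpb := Weight.isPullback_bcMap (IsPullback.of_hasPullback f g) (IsPullback.of_hasPullback f g') N.ι rfl
  let V' := fun k => bc ⁻¹ᵁ V k
  have hclosed' : IsClosed (⋃ k, (V' k : Set ↥(pullback f g'))) :=
    isClosed_iUnion_of_finite fun k => (hclosed k).preimage bc.continuous
  refine ⟨N, g', ⟨u, hu⟩, inferInstance, hgu, K, hK, ⟨(⋃ k, (V' k : Set ↥(pullback f g')))ᶜ, hclosed'.isOpen_compl⟩,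
    V', ?_, fun k => ?_, fun k k' hne => ?_, fun k => ⟨?_, ?_⟩, fun w i hwW hwu hwx => ?_⟩
  · refine TopologicalSpace.Opens.ext (Set.eq_univ_of_forall fun z => ?_)
    by_cases hz : z ∈ ⋃ k, (V' k : Set ↥(pullback f g'))
    · obtain ⟨k, hk⟩ := Set.mem_iUnion.1 hz
      exact Or.inr (TopologicalSpace.Opens.mem_iSup.2 ⟨k, hk⟩)
    · exact Or.inl hz
  · rw [disjoint_iff]
    exact TopologicalSpace.Opens.ext (Set.eq_empty_of_forall_notMem fun z hz =>
      hz.1 (Set.mem_iUnion.2 ⟨k, hz.2⟩))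
  · rw [disjoint_iff]
    refine TopologicalSpace.Opens.ext (Set.eq_empty_of_forall_notMem fun z hz => ?_)
    have h1 : pullback.snd f g (bc z) ∈ N := by
      rw [← Scheme.Hom.comp_apply, Weight.bcMap_snd, Scheme.Hom.comp_apply]
      exact ((pullback.snd f g') z).2
    exact h1 (Set.mem_iUnion.2 ⟨⟨(k, k'), hne⟩, ⟨bc z, hz.1⟩, hz.2, rfl⟩)
  · exact MorphismProperty.of_isPullback ((isPullback_morphismRestrict bc (V k)).paste_vert hpb) (hV k).1
  · obtain ⟨w, hwV, hwu⟩ := (hV k).2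
    obtain ⟨z, hz1, hz2⟩ := Scheme.Pullback.exists_preimage_pullback
      (f := pullback.snd f g) (g := N.ι) w (⟨u, hu⟩ : N) hwu
    refine ⟨hpb.isoPullback.inv z, ?_, ?_⟩
    · show bc (hpb.isoPullback.inv z) ∈ V k
      rw [← Scheme.Hom.comp_apply, hpb.isoPullback_inv_fst, hz1]
      exact hwV
    · rw [← Scheme.Hom.comp_apply, hpb.isoPullback_inv_snd, hz2]
  · have hbu : pullback.snd f g (bc w) = u := by
      rw [← Scheme.Hom.comp_apply, Weight.bcMap_snd, Scheme.Hom.comp_apply, hwu]; rfl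
    have hbx : pullback.fst f g (bc w) = x i := by
      rw [← Scheme.Hom.comp_apply, Weight.bcMap_fst]; exact hwx
    obtain ⟨k, -, hk⟩ := hall (bc w) i hbu hbx
    exact hwW (Set.mem_iUnion.2 ⟨k, hk⟩)

end Groth.Agent.EtSplitH7
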