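import Groth.Agent.Lib.EtaleNhd17.Basic
import Mathlib.AlgebraicGeometry.Morphisms.Finite
import Mathlib.AlgebraicGeometry.Morphisms.ClosedImmersion
import Mathlib.RingTheory.Unramified.LocalRing
import Mathlib.FieldTheory.PurelyInseparable.Basic

/-!
# Finite unramified morphisms with one purely inseparable point in a fibre
-/

set_option autoImplicit false
set_option linter.style.haveILetI false
universe u

open CategoryTheory AlgebraicGeometry IsLocalRing

namespace Groth.Agent.EtSplitH7

theorem exists_forall_mul_mem_range {A B : Type u} [CommRing A] [CommRing B] [Algebra A B]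
    [Module.Finite A B] (p : Ideal A) [p.IsPrime] (q : Ideal B) [q.IsPrime] [q.LiesOver p]
    (hq : p.primesOver B = {q})
    (hsurj : Function.Surjective (Localization.localRingHom p q (algebraMap A B) (q.over_def p))) :
    ∃ r ∉ p, ∀ x : B, ∃ a : A, algebraMap A B r * x = algebraMap A B a := by
  classical
  obtain ⟨s, hs⟩ := Module.Finite.fg_top (R := A) (M := B)
  have key : ∀ x : B, ∃ b ∉ p, ∃ a : A, algebraMap A B b * x = algebraMap A B a := by
    intro x
    obtain ⟨z, hz⟩ := hsurj (algebraMap B _ x)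
    obtain ⟨a, ⟨b, hb⟩, rfl⟩ := IsLocalization.exists_mk'_eq p.primeCompl z
    rw [Localization.localRingHom_mk', IsLocalization.mk'_eq_iff_eq_mul, ← map_mul,
      IsLocalization.eq_iff_exists q.primeCompl] at hz
    obtain ⟨⟨c, hc⟩, hcz⟩ := hz
    obtain ⟨d, hd, e, he⟩ := Ideal.exists_notMem_dvd_algebraMap_of_primesOver_eq_singleton hq _ hc
    refine ⟨d * b, mul_mem (s := p.primeCompl) hd hb, d * a, ?_⟩
    rw [map_mul, map_mul, he]
    linear_combination -e * hcz
  choose b hb a ha using key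
  refine ⟨∏ i ∈ s, b i, prod_mem (S := p.primeCompl) fun i _ => hb i, fun x => ?_⟩
  have hx : x ∈ Submodule.span A (s : Set B) := hs ▸ Submodule.mem_top
  induction hx using Submodule.span_induction with
  | mem z hz =>
    refine ⟨(∏ i ∈ s.erase z, b i) * a z, ?_⟩
    rw [← Finset.prod_erase_mul s b hz, map_mul, map_mul, mul_assoc, ha]
  | zero => exact ⟨0, by simp⟩
  | add u v _ _ hu hv =>
    obtain ⟨a₁, h₁⟩ := hu
    obtain ⟨a₂, h₂⟩ := hv
    exact ⟨a₁ + a₂, by rw [mul_add, h₁, h₂, map_add]⟩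
  | smul c u _ hu =>
    obtain ⟨a₁, h₁⟩ := hu
    exact ⟨c * a₁, by rw [mul_smul_comm, h₁, map_mul, Algebra.smul_def]⟩

/-- Congruence modulo non-units is invariant under isomorphisms of ring maps. -/
theorem exists_nonunit_sub {R S R' S' : CommRingCat.{u}} (f : R ⟶ S) (g : R' ⟶ S')
    (e : Arrow.mk f ≅ Arrow.mk g) (hf : ∀ y, ∃ x, ¬ IsUnit (y - f x)) (y : S') :
    ∃ x, ¬ IsUnit (y - g x) := by
  let el : R ⟶ R' := e.hom.left
  let er : S ⟶ S' := e.hom.right
  let ir : S' ⟶ S := e.inv.right
  have hw : ∀ x, g (el x) = er (f x) := fun x => ConcreteCategory.congr_hom e.hom.w x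
  have h1 : ∀ t, er (ir t) = t := fun t =>
    ConcreteCategory.congr_hom (congrArg CommaMorphism.right e.inv_hom_id) t
  have h2 : ∀ t, ir (er t) = t := fun t =>
    ConcreteCategory.congr_hom (congrArg CommaMorphism.right e.hom_inv_id) t
  obtain ⟨x, hx⟩ := hf (ir y)
  refine ⟨el x, fun hu => hx ?_⟩
  have h3 := hu.map ir.hom
  rwa [map_sub, show ir.hom (g (el x)) = f x by rw [hw]; exact h2 _] at h3

variable {P U : Scheme.{u}}

theorem surjective_residueFieldMap (h : P ⟶ U) [LocallyOfFiniteType h] [FormallyUnramified h] (v : P)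
    (hpi : letI := (h.residueFieldMap v).hom.toAlgebra
      IsPurelyInseparable (U.residueField (h v)) (P.residueField v)) :
    Function.Surjective (h.residueFieldMap v) := by
  letI := (h.residueFieldMap v).hom.toAlgebra
  haveI := ((EtaleNhd17.formallyUnramified_stalkMap_iff_map_eq h v).1 (FormallyUnramified.stalkMap h v)).1
  haveI := hpi
  exact IsPurelyInseparable.surjective_algebraMap_of_isSeparable (U.residueField (h v)) (P.residueField v)

/-- A finite unramified morphism is a closed immersion near a point whose fibre is one purely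
inseparable point. -/
theorem exists_isClosedImmersion_restrict (h : P ⟶ U) [IsFinite h] [FormallyUnramified h] (v : P)
    (huniq : ∀ w, h w = h v → w = v)
    (hpi : letI := (h.residueFieldMap v).hom.toAlgebra
      IsPurelyInseparable (U.residueField (h v)) (P.residueField v)) :
    ∃ N : U.Opens, h v ∈ N ∧ IsClosedImmersion (h ∣_ N) := by
  have hres := surjective_residueFieldMap h v hpi
  obtain ⟨V, hV, hvV, -⟩ := exists_isAffineOpen_mem_and_subset (X := U) (x := h v) (U := ⊤) trivial
  have hW : IsAffineOpen (h ⁻¹ᵁ V) := hV.preimage h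
  have hfin : (h.appLE V (h ⁻¹ᵁ V) le_rfl).hom.Finite := by
    rw [← Scheme.Hom.app_eq_appLE]; exact h.finite_app V hV
  let A := Γ(U, V)
  let B := Γ(P, h ⁻¹ᵁ V)
  letI : Algebra A B := (h.appLE V (h ⁻¹ᵁ V) le_rfl).hom.toAlgebra
  haveI : Module.Finite A B := hfin
  let p := (hV.primeIdealOf ⟨h v, hvV⟩).asIdeal
  let q := (hW.primeIdealOf ⟨v, hvV⟩).asIdeal
  haveI : q.LiesOver p :=
    ⟨congr($(IsAffineOpen.comap_primeIdealOf_appLE V hV (h ⁻¹ᵁ V) hW le_rfl hvV).1).symm⟩
  haveI : Algebra.IsUnramifiedAt A q :=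
    (EtaleNhd17.formallyUnramified_stalkMap_iff h V hV (h ⁻¹ᵁ V) hW le_rfl hvV).1
      (FormallyUnramified.stalkMap h v)
  have hq : p.primesOver B = {q} := by
    refine Set.eq_singleton_iff_unique_mem.2 ⟨⟨inferInstance, inferInstance⟩, fun q' hq' => ?_⟩
    haveI := hq'.1
    haveI := hq'.2
    let w := hW.fromSpec (⟨q', inferInstance⟩ : PrimeSpectrum B)
    have hw : w ∈ h ⁻¹ᵁ V := hW.range_fromSpec.le ⟨_, rfl⟩
    have hq'w : hW.primeIdealOf ⟨w, hw⟩ = (⟨q', inferInstance⟩ : PrimeSpectrum B) :=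
      hW.fromSpec.isOpenEmbedding.injective (hW.fromSpec_primeIdealOf ⟨w, hw⟩)
    have h1 := IsAffineOpen.comap_primeIdealOf_appLE V hV (h ⁻¹ᵁ V) hW le_rfl (x := w) hw
    have h2 : hV.primeIdealOf ⟨h w, hw⟩ = hV.primeIdealOf ⟨h v, hvV⟩ := by
      rw [← h1, hq'w]
      exact PrimeSpectrum.ext hq'.2.over.symm
    have h3 : h w = h v := by
      exact (hV.fromSpec_primeIdealOf ⟨h w, hw⟩).symm.trans
        ((congrArg (⇑hV.fromSpec) h2).trans (hV.fromSpec_primeIdealOf ⟨h v, hvV⟩))
    have h4 := huniq w h3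
    show q' = q
    have h5 : (⟨q', inferInstance⟩ : PrimeSpectrum B) = hW.primeIdealOf ⟨v, hvV⟩ := by
      rw [← hq'w]; congr 1; exact Subtype.ext h4
    exact congrArg PrimeSpectrum.asIdeal h5
  letI := Localization.AtPrime.algebraOfLiesOver p q
  have hH : Function.Surjective (algebraMap p.ResidueField q.ResidueField) := by
    intro y
    obtain ⟨y, rfl⟩ := IsLocalRing.residue_surjective y
    have hf : ∀ y : P.presheaf.stalk v, ∃ x, ¬ IsUnit (y - h.stalkMap v x) := by
      intro y
      obtain ⟨z, hz⟩ := hres (IsLocalRing.residue _ y)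
      obtain ⟨z, rfl⟩ := IsLocalRing.residue_surjective z
      refine ⟨z, (?_ : y - h.stalkMap v z ∈ maximalIdeal (P.presheaf.stalk v))⟩
      rw [← IsLocalRing.residue_eq_zero_iff, map_sub, sub_eq_zero, ← hz]
      rfl
    obtain ⟨z, hz⟩ := exists_nonunit_sub _ _ (IsAffineOpen.arrowStalkMapIso h V hV (h ⁻¹ᵁ V) hW le_rfl hvV) hf y
    refine ⟨IsLocalRing.residue (Localization.AtPrime p) z, ?_⟩
    rw [← sub_eq_zero, show algebraMap p.ResidueField q.ResidueField (IsLocalRing.residue _ z) =
        IsLocalRing.residue _ (algebraMap (Localization.AtPrime p) (Localization.AtPrime q) z) from rfl,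
      ← map_sub, IsLocalRing.residue_eq_zero_iff, ← neg_mem_iff, neg_sub,
      Localization.AtPrime.IsLiesOverAlgebra.algebraMap_eq]
    exact hz
  obtain ⟨r, hr, hrB⟩ := exists_forall_mul_mem_range p q hq
    (Localization.localRingHom_surjective_of_primesOver_eq_singleton hq hH)
  refine ⟨U.basicOpen r, ?_, ?_⟩
  · have h1 : hV.fromSpec (hV.primeIdealOf ⟨h v, hvV⟩) = h v := hV.fromSpec_primeIdealOf _
    have h2 : hV.primeIdealOf ⟨h v, hvV⟩ ∈ hV.fromSpec ⁻¹ᵁ U.basicOpen r := by
      rw [hV.fromSpec_preimage_basicOpen]; exact hr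
    exact h1 ▸ h2
  haveI : IsAffine (U.basicOpen r) := hV.basicOpen r
  haveI : IsAffine (h ⁻¹ᵁ U.basicOpen r) := (hV.basicOpen r).preimage h
  have hD : U.basicOpen r ≤ V := U.basicOpen_le r
  have hD' : h ⁻¹ᵁ U.basicOpen r ≤ h ⁻¹ᵁ V := fun _ hz => hD hz
  have hnat : ∀ a : A, P.presheaf.map (homOfLE hD').op (h.app V a) =
      h.app (U.basicOpen r) (U.presheaf.map (homOfLE hD).op a) := fun a =>
    (ConcreteCategory.congr_hom (h.naturality (homOfLE hD).op) a).symm
  have happ : Function.Surjective (h.app (U.basicOpen r)) := by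
    intro y
    have e0 : h ⁻¹ᵁ U.basicOpen r = P.basicOpen (h.app V r) := Scheme.preimage_basicOpen h r
    letI := (P.presheaf.map (homOfLE hD').op).hom.toAlgebra
    haveI : IsLocalization.Away (h.app V r) Γ(P, h ⁻¹ᵁ U.basicOpen r) :=
      hW.isLocalization_of_eq_basicOpen (h.app V r) (homOfLE hD') e0
    obtain ⟨n, x, hx⟩ := IsLocalization.Away.surj (h.app V r) y
    obtain ⟨a, ha⟩ := hrB x
    have ha' : h.app V r * x = h.app V a := by
      rw [Scheme.Hom.app_eq_appLE]; exact ha
    have hu : IsUnit (U.presheaf.map (homOfLE hD).op r) := by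
      letI := (U.presheaf.map (homOfLE hD).op).hom.toAlgebra
      haveI : IsLocalization.Away r Γ(U, U.basicOpen r) :=
        hV.isLocalization_of_eq_basicOpen r (homOfLE hD) rfl
      exact IsLocalization.Away.algebraMap_isUnit r
    refine ⟨U.presheaf.map (homOfLE hD).op a * ↑(hu.pow (n + 1)).unit⁻¹, ?_⟩
    have hx' : y * P.presheaf.map (homOfLE hD').op (h.app V r) ^ n =
        P.presheaf.map (homOfLE hD').op x := hx
    have h2 : h.app (U.basicOpen r) (U.presheaf.map (homOfLE hD).op a) =
        y * h.app (U.basicOpen r) ((hu.pow (n + 1)).unit : Γ(U, U.basicOpen r)) := by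
      rw [IsUnit.unit_spec, map_pow, ← hnat, ← hnat, ← ha', map_mul, ← hx']
      ring
    rw [map_mul, h2, mul_assoc, ← map_mul, Units.mul_inv, map_one, mul_one]
  refine IsClosedImmersion.of_surjective_of_isAffine (X := (h ⁻¹ᵁ U.basicOpen r : P.Opens).toScheme)
    (Y := (U.basicOpen r).toScheme) _ ?_
  rw [morphismRestrict_appTop]
  have key : ∀ D : U.Opens, D = U.basicOpen r → Function.Surjective (h.app D) := fun D hD' => by
    subst hD'; exact happ
  intro z
  obtain ⟨z', rfl⟩ := (ConcreteCategory.bijective_of_isIso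
    (P.presheaf.map (eqToHom (image_morphismRestrict_preimage h (U.basicOpen r) ⊤)).op)).2 z
  obtain ⟨y, rfl⟩ := key _ (Scheme.Opens.ι_image_top _) z'
  exact ⟨y, rfl⟩

/-- Composing with an open immersion does not change residue extensions. -/
theorem isPurelyInseparable_comp {Z Y : Scheme.{u}} (W : Z.Opens) (π : Z ⟶ Y) (w : W)
    (hpi : letI := (π.residueFieldMap w.1).hom.toAlgebra
      IsPurelyInseparable (Y.residueField (π w.1)) (Z.residueField w.1)) :
    letI := ((W.ι ≫ π).residueFieldMap w).hom.toAlgebra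
    IsPurelyInseparable (Y.residueField ((W.ι ≫ π) w)) (W.toScheme.residueField w) := by
  letI := (π.residueFieldMap w.1).hom.toAlgebra
  letI : Algebra (Y.residueField (π w.1)) (W.toScheme.residueField w) :=
    ((W.ι ≫ π).residueFieldMap w).hom.toAlgebra
  show IsPurelyInseparable (Y.residueField (π w.1)) (W.toScheme.residueField w)
  haveI := hpi
  haveI : IsIso (W.ι.residueFieldMap w) := inferInstance
  let e : Z.residueField w.1 →ₐ[Y.residueField (π w.1)] W.toScheme.residueField w :=
    { (W.ι.residueFieldMap w).hom with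
      commutes' := fun r => (ConcreteCategory.congr_hom (Scheme.residueFieldMap_comp W.ι π w) r).symm }
  exact (AlgEquiv.ofBijective e (ConcreteCategory.bijective_of_isIso (W.ι.residueFieldMap w))).isPurelyInseparable

end Groth.Agent.EtSplitH7
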